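import Groth.Agent.Lib.ExtPowX.SesSheaf
import Mathlib.LinearAlgebra.Multilinear.TensorProduct
import Mathlib.LinearAlgebra.Alternating.Basic

/-!
# The antisymmetrised comultiplication of exterior powers
-/

universe u

set_option autoImplicit false
set_option linter.all false
set_option backward.isDefEq.respectTransparency false
set_option maxHeartbeats 600000

open TensorProduct
open GrothLib.ExtPowX.Ses (mu)

noncomputable section

namespace GrothLib.BiReg5

variable (A : Type u) [CommRing A] (M : Type u) [AddCommGroup M] [Module A M] {p q n : ℕ}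

/-- Splitting a list of vectors into two wedges. -/
def splitMulti (h : p + q = n) : MultilinearMap A (fun _ : Fin n => M) ((⋀[A]^p M) ⊗[A] (⋀[A]^q M)) :=
  MultilinearMap.domDomCongr (finSumFinEquiv.trans (finCongr h))
    (MultilinearMap.domCoprod (exteriorPower.ιMulti A p (M := M)).toMultilinearMap
      (exteriorPower.ιMulti A q (M := M)).toMultilinearMap)

theorem splitMulti_apply (h : p + q = n) (v : Fin n → M) :
    splitMulti A M h v = exteriorPower.ιMulti A p (fun i => v (finCongr h (Fin.castAdd q i))) ⊗ₜ
      exteriorPower.ιMulti A q (fun i => v (finCongr h (Fin.natAdd p i))) := rfl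

/-- The comultiplication. -/
def comulAlt (h : p + q = n) : (⋀[A]^n M) →ₗ[A] (⋀[A]^p M) ⊗[A] (⋀[A]^q M) :=
  let m : MultilinearMap A (fun _ : Fin n => M) ((⋀[A]^p M) ⊗[A] (⋀[A]^q M)) := splitMulti A M h
  let a : M [⋀^Fin n]→ₗ[A] ((⋀[A]^p M) ⊗[A] (⋀[A]^q M)) :=
    (MultilinearMap.alternatization (R := A) (M := M) (N' := (⋀[A]^p M) ⊗[A] (⋀[A]^q M)) (ι := Fin n) m :)
  (exteriorPower.alternatingMapLinearEquiv (N := (⋀[A]^p M) ⊗[A] (⋀[A]^q M)) a :)

theorem comulAlt_ιMulti (h : p + q = n) (v : Fin n → M) :
    comulAlt A M h (exteriorPower.ιMulti A n v) =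
      ∑ σ : Equiv.Perm (Fin n), Equiv.Perm.sign σ • splitMulti A M h (fun i => v (σ i)) := by
  rw [comulAlt, exteriorPower.alternatingMapLinearEquiv_apply_ιMulti, MultilinearMap.alternatization_apply]
  rfl

theorem mu_splitMulti (h : p + q = n) (v : Fin n → M) :
    mu (LinearMap.id : M →ₗ[A] M) h (splitMulti A M h v) = exteriorPower.ιMulti A n v := by
  rw [splitMulti_apply, ExtPowX.Ses.mu_tmul_ιMulti]
  subst h
  refine congrArg _ (funext fun i => ?_)
  induction i using Fin.addCases with
  | left i => simp
  | right i => simp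

/-- Multiplication after comultiplication is the scalar `n!`. -/
theorem mu_comulAlt (h : p + q = n) (x : ⋀[A]^n M) :
    mu (LinearMap.id : M →ₗ[A] M) h (comulAlt A M h x) = (n.factorial : A) • x := by
  have key : mu (LinearMap.id : M →ₗ[A] M) h ∘ₗ comulAlt A M h = (n.factorial : A) • LinearMap.id := by
    refine exteriorPower.linearMap_ext (AlternatingMap.ext fun v => ?_)
    simp only [LinearMap.compAlternatingMap_apply, LinearMap.comp_apply, LinearMap.smul_apply, LinearMap.id_apply,
      comulAlt_ιMulti, map_sum, Units.smul_def, map_zsmul, mu_splitMulti]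
    have : ∀ σ : Equiv.Perm (Fin n), (Equiv.Perm.sign σ : ℤ) • exteriorPower.ιMulti A n (fun i => v (σ i)) =
        exteriorPower.ιMulti A n v := fun σ => by
      rw [show (fun i => v (σ i)) = v ∘ σ from rfl, AlternatingMap.map_perm, Units.smul_def, smul_smul,
        ← Units.val_mul, Int.units_mul_self, Units.val_one, one_smul]
    rw [Finset.sum_congr rfl fun σ _ => this σ, Finset.sum_const, Finset.card_univ, Fintype.card_perm,
      Fintype.card_fin, Nat.cast_smul_eq_nsmul]
  exact LinearMap.congr_fun key x

end GrothLib.BiReg5
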