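import Groth.Prelude.Def_W4c3multigrregularBiProj
import Groth.Agent.Lib.Quad12.Twists
import Groth.Agent.Lib.OX.LocFreeTensor
import Groth.Agent.Lib.OX.TensorAssoc
import Groth.Agent.Lib.GrTilde.Mul
import Groth.Agent.Lib.Euler.Basic
import Groth.Agent.Lib.CurveMult.GGCurve
import Groth.Agent.Lib.GVanish.Main
import Groth.Agent.Lib.FBase7.Dim
import Groth.Agent.Lib.LineFlag12.H0

/-!
# Bigraded regularity of tensor products on `P¹ × P¹`
-/

universe u

set_option autoImplicit false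
set_option linter.all false
set_option backward.isDefEq.respectTransparency false
set_option maxHeartbeats 600000

open CategoryTheory CategoryTheory.Limits AlgebraicGeometry

noncomputable section

namespace GrothLib.BiReg5

open GrothLib.Quad12 (Z O2 hasCls_O2 cl_mul subsingleton_O2 overZ)

variable (k : Type u) [Field k]

instance isProperZ : IsProper ((Z k) ↘ Spec (CommRingCat.of k)) := by
  haveI : IsProper (CohB1.ProjSpace.toSpec 1 k) := Chow.isProper_toSpec 1 k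
  show IsProper (Quad12.pr1 k ≫ CohB1.ProjSpace.toSpec 1 k)
  infer_instance

theorem dim_Z : topologicalKrullDim ↥(Z k) ≤ ((2 : ℕ) : WithBot ℕ∞) := by
  haveI : IsProper (CohB1.ProjSpace.toSpec 1 k) := Chow.isProper_toSpec 1 k
  rw [FBase7.topologicalKrullDim_pullback_eq_add, LineFlag12.dim_projSpace]
  exact le_of_eq rfl

/-- No cohomology above degree two. -/
theorem subsingleton_high (M : (Z k).Modules) {q : ℕ} (hq : 2 < q) : Subsingleton (Coh.HH (Z k) M q) := by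
  haveI := Euler.isNoetherian_of_proper (X := Z k) k
  haveI : TopologicalSpace.NoetherianSpace (Z k).toTopCat :=
    (inferInstance : TopologicalSpace.NoetherianSpace (Z k))
  exact GVanish.subsingleton_H_of_krullDim_le (X := (Z k).toTopCat) 2 (dim_Z k) (Coh.toAb M) q hq

/-- The negative twists occurring in regularity. -/
theorem subsingleton_O2_neg (u₁ u₂ : ℕ) (n : ℕ) (h : 0 < u₁ + u₂) (hn : n = u₁ + u₂ ∨ n = u₁ + u₂ + 1) :
    Subsingleton (Coh.HH (Z k) (O2 k (-(u₁ : ℤ)) (-(u₂ : ℤ))) n) := by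
  refine subsingleton_O2 k _ _ n fun i j hij => ?_
  by_cases hi : 2 ≤ i
  · exact Or.inl ⟨by omega, by omega⟩
  by_cases hj : 2 ≤ j
  · exact Or.inr ⟨by omega, by omega⟩
  by_cases hi1 : i = 1 ∧ u₁ ≤ 1
  · exact Or.inl ⟨by omega, by omega⟩
  · exact Or.inr ⟨by omega, by omega⟩

theorem isFinLocFree_O2 (a b : ℤ) : FlatMod.IsFinLocFree (O2 k a b) :=
  Euler.isFinLocFree_of_isInvertible (hasCls_O2 k a b).1

theorem nonempty_O2_mul (a b a' b' a'' b'' : ℤ) (ha : a + a' = a'') (hb : b + b' = b'') :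
    Nonempty (CohB1.tensorMod (O2 k a b) (O2 k a' b') ≅ O2 k a'' b'') :=
  ((hasCls_O2 k a b).tensor (hasCls_O2 k a' b')).iso (hasCls_O2 k a'' b'') (by rw [cl_mul, ha, hb])

/-- The middle four interchange. -/
def mid4 {X : Scheme.{u}} (A B C D : X.Modules) :
    CohB1.tensorMod (CohB1.tensorMod A B) (CohB1.tensorMod C D) ≅
      CohB1.tensorMod (CohB1.tensorMod A C) (CohB1.tensorMod B D) :=
  OX.tensorAssoc A B (CohB1.tensorMod C D) ≪≫
    Ample.LineData.tensorModMapIso (Iso.refl A)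
      ((OX.tensorAssoc B C D).symm ≪≫
        Ample.LineData.tensorModMapIso (GrTilde.tensorModComm B C) (Iso.refl D) ≪≫ OX.tensorAssoc C B D) ≪≫
    (OX.tensorAssoc A C (CohB1.tensorMod B D)).symm

/-- A finite free module tensored with `T`. -/
theorem subsingleton_free_tensor (N : ℕ) (T : (Z k).Modules) (q : ℕ) (h : Subsingleton (Coh.HH (Z k) T q)) :
    Subsingleton (Coh.HH (Z k) (CohB1.tensorMod (FlatMod.freeMod (Z k) N) T) q) :=
  CMReg.subsingleton_of_iso (CMReg.tensorSigmaIso (fun _ : Fin N => Coh.structureModule (Z k)) T).symm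
    (CMReg.subsingleton_HH_sigma _ fun _ => CMReg.subsingleton_of_iso (OX.tensorUnitLeftIso T).symm h)

/-- The key vanishing. -/
theorem subsingleton_tensor {A B c : (Z k).Modules} (hA : FlatMod.IsFinLocFree A) (hB : FlatMod.IsFinLocFree B)
    (hc' : FlatMod.IsFinLocFree c) (hgA : Curv2.IsGloballyGenerated A) (hgB : Curv2.IsGloballyGenerated B)
    {i : ℕ} (hi : 0 < i) (hc : Subsingleton (Coh.HH (Z k) c (i + 1)))
    (hAc : Subsingleton (Coh.HH (Z k) (CohB1.tensorMod A c) i))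
    (hBc : Subsingleton (Coh.HH (Z k) (CohB1.tensorMod B c) i)) :
    Subsingleton (Coh.HH (Z k) (CohB1.tensorMod A (CohB1.tensorMod B c)) i) := by
  haveI := Euler.isNoetherian_of_proper (X := Z k) k
  obtain ⟨N, p, hp⟩ := CurveMult.exists_epi_freeMod (Euler.isCoh_of_isFinLocFree hA) hgA
  obtain ⟨M, q, hq⟩ := CurveMult.exists_epi_freeMod (Euler.isCoh_of_isFinLocFree hB) hgB
  have hfree : FlatMod.IsFinLocFree (FlatMod.freeMod (Z k) N) :=
    OX.isFinLocFree_sigma (fun _ : Fin N => Coh.structureModule (Z k))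
      fun _ => Euler.isFinLocFree_of_isInvertible Euler.isInvertible_structure
  have hK : FlatMod.IsFinLocFree (kernel p) := OX.isFinLocFree_kernel p hfree hA
  have hKc : FlatMod.IsFlat (CohB1.tensorMod (kernel p) c) :=
    OX.flat_of_isFinLocFree (OX.isFinLocFree_tensor hK hc')
  have hBcf : FlatMod.IsFlat (CohB1.tensorMod B c) := OX.flat_of_isFinLocFree (OX.isFinLocFree_tensor hB hc')
  have hS0 : (ShortComplex.mk (kernel.ι p) p (kernel.condition p)).ShortExact :=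
    { exact := ShortComplex.exact_of_f_is_kernel _ (kernelIsKernel p) }
  have hS1 : (ShortComplex.mk (kernel.ι q) q (kernel.condition q)).ShortExact :=
    { exact := ShortComplex.exact_of_f_is_kernel _ (kernelIsKernel q) }
  have h1 : Subsingleton (Coh.HH (Z k) (CohB1.tensorMod (kernel p) c) (i + 1)) :=
    CMReg.subsingleton_X₁_succ (OX.tensor_map_shortExact (OX.flat_of_isFinLocFree hc') hS0) hAc
      (subsingleton_free_tensor k N c _ hc)
  have h2 : Subsingleton (Coh.HH (Z k) (CohB1.tensorMod B (CohB1.tensorMod (kernel p) c)) (i + 1)) :=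
    CMReg.subsingleton_X₃ (OX.tensor_map_shortExact hKc hS1) (subsingleton_free_tensor k M _ _ h1)
      (subsingleton_high k _ (by omega))
  have h3 : Subsingleton (Coh.HH (Z k) (CohB1.tensorMod (kernel p) (CohB1.tensorMod B c)) (i + 1)) :=
    CMReg.subsingleton_of_iso
      ((OX.tensorAssoc B (kernel p) c).symm ≪≫
        Ample.LineData.tensorModMapIso (GrTilde.tensorModComm B (kernel p)) (Iso.refl c) ≪≫
        OX.tensorAssoc (kernel p) B c) h2
  exact CMReg.subsingleton_X₃ (OX.tensor_map_shortExact hBcf hS0) (subsingleton_free_tensor k N _ _ hBc) h3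

/-- Regular, with globally generated twist. -/
def Reg (G : (Z k).Modules) (p q : ℤ) : Prop :=
  W4c3multigrregular.IsBiReg 1 1 k G p q ∧ Curv2.IsGloballyGenerated (W4c3multigrregular.twistBi 1 1 k G p q)

theorem twistBi_eq (F : (Z k).Modules) (a b : ℤ) :
    W4c3multigrregular.twistBi 1 1 k F a b = CohB1.tensorMod F (O2 k a b) := by
  unfold W4c3multigrregular.twistBi W4c3multigrregular.lineBundle
  rfl

theorem Reg.of_iso {G G' : (Z k).Modules} {p q : ℤ} (h : Reg k G p q) (e : G ≅ G') : Reg k G' p q :=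
  ⟨fun u₁ u₂ hu => CMReg.subsingleton_of_iso (Ample.LineData.tensorModMapIso e (Iso.refl _)) (h.1 u₁ u₂ hu),
    Ample.isGloballyGenerated_of_iso (Ample.LineData.tensorModMapIso e (Iso.refl _)) h.2⟩

theorem isGloballyGenerated_structure (X : Scheme.{u}) : Curv2.IsGloballyGenerated (Coh.structureModule X) := by
  refine ⟨PUnit, Sigma.desc fun _ => 𝟙 (Coh.structureModule X), ⟨fun {N} g g' hgg => ?_⟩⟩
  have h1 := congrArg (fun f => Sigma.ι (fun _ : PUnit.{u + 1} => Coh.structureModule X) PUnit.unit ≫ f) hgg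
  simp only [Sigma.ι_desc_assoc] at h1
  exact (Category.id_comp _).symm.trans (h1.trans (Category.id_comp _))

/-- The structure sheaf is `(0, 0)`-regular. -/
theorem reg_structure : Reg k (Coh.structureModule (Z k)) 0 0 := by
  refine ⟨fun u₁ u₂ hu => ?_, ?_⟩
  · rw [twistBi_eq, zero_sub, zero_sub]
    exact CMReg.subsingleton_of_iso (OX.tensorUnitLeftIso (O2 k (-(u₁ : ℤ)) (-(u₂ : ℤ)))).symm
      (subsingleton_O2_neg k u₁ u₂ (u₁ + u₂) hu (Or.inl rfl))
  · rw [twistBi_eq]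
    obtain ⟨e⟩ := (Cube.hasCls_structureModule (Z k)).iso (hasCls_O2 k 0 0) (Quad12.cl_zero k).symm
    exact Ample.isGloballyGenerated_of_iso (e ≪≫ (OX.tensorUnitLeftIso (O2 k 0 0)).symm)
      (isGloballyGenerated_structure (Z k))

theorem isGloballyGenerated_tensor {X : Scheme.{u}} [CompactSpace X] [IsLocallyNoetherian X] {A B : X.Modules}
    (hA : Coh.IsCoh A) (hgA : Curv2.IsGloballyGenerated A) (hgB : Curv2.IsGloballyGenerated B) :
    Curv2.IsGloballyGenerated (CohB1.tensorMod A B) := by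
  obtain ⟨N, p, hp⟩ := CurveMult.exists_epi_freeMod hA hgA
  let F := (DCoh.tensorBi (X := X)).flip.obj B
  haveI := hp
  haveI : Epi (F.map p) := inferInstanceAs (Epi (((DCoh.tensorBi (X := X)).flip.obj B).map p))
  refine CurveMult.isGloballyGenerated_of_epi (F.map p) (Ample.isGloballyGenerated_of_iso
    (CMReg.tensorSigmaIso (fun _ : Fin N => Coh.structureModule X) B).symm ?_)
  refine Ample.isGloballyGenerated_of_iso ?_ (CurveMult.isGloballyGenerated_sigma hgB N)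
  exact Sigma.mapIso fun _ => (OX.tensorUnitLeftIso B).symm

/-- The bookkeeping of twists, for abstract modules. -/
theorem subsingleton_tensor_twisted {G₁ G₂ T₁ T₂ c d₁ d₂ d₃ : (Z k).Modules} (hG₁ : FlatMod.IsFinLocFree G₁)
    (hG₂ : FlatMod.IsFinLocFree G₂) (hT₁ : FlatMod.IsFinLocFree T₁) (hT₂ : FlatMod.IsFinLocFree T₂)
    (hc' : FlatMod.IsFinLocFree c) (hg₁ : Curv2.IsGloballyGenerated (CohB1.tensorMod G₁ T₁))
    (hg₂ : Curv2.IsGloballyGenerated (CohB1.tensorMod G₂ T₂)) (e₁ : CohB1.tensorMod T₁ c ≅ d₁)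
    (e₂ : CohB1.tensorMod T₂ c ≅ d₂) (e₃ : CohB1.tensorMod T₁ d₂ ≅ d₃) {i : ℕ} (hi : 0 < i)
    (hc : Subsingleton (Coh.HH (Z k) c (i + 1))) (h₁ : Subsingleton (Coh.HH (Z k) (CohB1.tensorMod G₁ d₁) i))
    (h₂ : Subsingleton (Coh.HH (Z k) (CohB1.tensorMod G₂ d₂) i)) :
    Subsingleton (Coh.HH (Z k) (CohB1.tensorMod (CohB1.tensorMod G₁ G₂) d₃) i) := by
  have hA : FlatMod.IsFinLocFree (CohB1.tensorMod G₁ T₁) := OX.isFinLocFree_tensor hG₁ hT₁
  have hB : FlatMod.IsFinLocFree (CohB1.tensorMod G₂ T₂) := OX.isFinLocFree_tensor hG₂ hT₂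
  have hAc : Subsingleton (Coh.HH (Z k) (CohB1.tensorMod (CohB1.tensorMod G₁ T₁) c) i) :=
    CMReg.subsingleton_of_iso
      (OX.tensorAssoc G₁ T₁ c ≪≫ Ample.LineData.tensorModMapIso (Iso.refl G₁) e₁).symm h₁
  have hBc : Subsingleton (Coh.HH (Z k) (CohB1.tensorMod (CohB1.tensorMod G₂ T₂) c) i) :=
    CMReg.subsingleton_of_iso
      (OX.tensorAssoc G₂ T₂ c ≪≫ Ample.LineData.tensorModMapIso (Iso.refl G₂) e₂).symm h₂
  exact CMReg.subsingleton_of_iso
    (Ample.LineData.tensorModMapIso (Iso.refl (CohB1.tensorMod G₁ T₁))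
        (OX.tensorAssoc G₂ T₂ c ≪≫ Ample.LineData.tensorModMapIso (Iso.refl G₂) e₂) ≪≫
      mid4 G₁ T₁ G₂ d₂ ≪≫ Ample.LineData.tensorModMapIso (Iso.refl _) e₃)
    (subsingleton_tensor k hA hB hc' hg₁ hg₂ hi hc hAc hBc)

theorem isGloballyGenerated_tensor_twisted {X : Scheme.{u}} [CompactSpace X] [IsLocallyNoetherian X]
    {G₁ G₂ T₁ T₂ d : X.Modules} (hG₁ : FlatMod.IsFinLocFree G₁) (hT₁ : FlatMod.IsFinLocFree T₁)
    (hg₁ : Curv2.IsGloballyGenerated (CohB1.tensorMod G₁ T₁))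
    (hg₂ : Curv2.IsGloballyGenerated (CohB1.tensorMod G₂ T₂)) (e : CohB1.tensorMod T₁ T₂ ≅ d) :
    Curv2.IsGloballyGenerated (CohB1.tensorMod (CohB1.tensorMod G₁ G₂) d) :=
  Ample.isGloballyGenerated_of_iso
    (mid4 G₁ T₁ G₂ T₂ ≪≫ Ample.LineData.tensorModMapIso (Iso.refl _) e)
    (isGloballyGenerated_tensor (Euler.isCoh_of_isFinLocFree (OX.isFinLocFree_tensor hG₁ hT₁)) hg₁ hg₂)

/-- **Tensor products.** -/
theorem Reg.tensor {G₁ G₂ : (Z k).Modules} {p q m n : ℤ} (h₁ : Reg k G₁ p q) (h₂ : Reg k G₂ m n)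
    (hG₁ : FlatMod.IsFinLocFree G₁) (hG₂ : FlatMod.IsFinLocFree G₂) :
    Reg k (CohB1.tensorMod G₁ G₂) (p + m) (q + n) := by
  have hg₁ := h₁.2
  have hg₂ := h₂.2
  rw [twistBi_eq] at hg₁ hg₂
  refine ⟨fun u₁ u₂ hu => ?_, ?_⟩
  · obtain ⟨e1⟩ := nonempty_O2_mul k p q (-(u₁ : ℤ)) (-(u₂ : ℤ)) (p - u₁) (q - u₂) (by ring) (by ring)
    obtain ⟨e2⟩ := nonempty_O2_mul k m n (-(u₁ : ℤ)) (-(u₂ : ℤ)) (m - u₁) (n - u₂) (by ring) (by ring)
    obtain ⟨e3⟩ := nonempty_O2_mul k p q (m - u₁) (n - u₂) (p + m - u₁) (q + n - u₂) (by ring) (by ring)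
    have r₁ := h₁.1 u₁ u₂ hu
    have r₂ := h₂.1 u₁ u₂ hu
    rw [twistBi_eq] at r₁ r₂
    rw [twistBi_eq]
    exact subsingleton_tensor_twisted k hG₁ hG₂ (isFinLocFree_O2 k p q) (isFinLocFree_O2 k m n)
      (isFinLocFree_O2 k (-(u₁ : ℤ)) (-(u₂ : ℤ))) hg₁ hg₂ e1 e2 e3 hu
      (subsingleton_O2_neg k u₁ u₂ _ hu (Or.inr rfl)) r₁ r₂
  · haveI := Euler.isNoetherian_of_proper (X := Z k) k
    obtain ⟨e⟩ := nonempty_O2_mul k p q m n (p + m) (q + n) rfl rfl
    rw [twistBi_eq]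
    exact isGloballyGenerated_tensor_twisted hG₁ (isFinLocFree_O2 k p q) hg₁ hg₂ e

/-- A retract of a regular module is regular. -/
theorem Reg.of_retract {T L : (Z k).Modules} {p q : ℤ} (h : Reg k T p q) (s : L ⟶ T) (r : T ⟶ L)
    (hsr : IsIso (s ≫ r)) : Reg k L p q := by
  haveI := hsr
  let r' := r ≫ inv (s ≫ r)
  have hid : s ≫ r' = 𝟙 L := by simp only [r', ← Category.assoc, IsIso.hom_inv_id]
  let F : (Z k).Modules ⥤ (Z k).Modules := (DCoh.tensorBi (X := Z k)).flip.obj (O2 k p q)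
  refine ⟨fun u₁ u₂ hu => ?_, ?_⟩
  · let F' : (Z k).Modules ⥤ (Z k).Modules := (DCoh.tensorBi (X := Z k)).flip.obj (O2 k (p - u₁) (q - u₂))
    haveI : Subsingleton (Coh.HH (Z k) (F'.obj T) (u₁ + u₂)) := h.1 u₁ u₂ hu
    show Subsingleton (Coh.HH (Z k) (F'.obj L) (u₁ + u₂))
    refine subsingleton_of_forall_eq 0 fun x => ?_
    rw [← Euler.hhMap_id (A := k) _ (u₁ + u₂) x, ← F'.map_id, ← hid, F'.map_comp, Euler.hhMap_comp,
      Subsingleton.elim (Cohom.hhMap k (F'.map s) (u₁ + u₂) x) 0, map_zero]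
  · haveI : IsSplitEpi (F.map r') := ⟨⟨⟨F.map s, by rw [← F.map_comp, hid, F.map_id]⟩⟩⟩
    exact CurveMult.isGloballyGenerated_of_epi (F.map r') h.2

end GrothLib.BiReg5
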