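import Groth.Agent.Lib.BiReg5.Alg
import Groth.Agent.Lib.WedgePair27.Sheaf
import Groth.Agent.Lib.QCoh.Affine

/-!
# Exterior powers are direct summands of tensor products in characteristic zero
-/

universe u

set_option autoImplicit false
set_option linter.all false
set_option backward.isDefEq.respectTransparency false
set_option maxHeartbeats 1000000

open CategoryTheory CategoryTheory.Limits AlgebraicGeometry Opposite TopologicalSpace
open GrothLib.InvExt (mres)
open GrothLib.ExtPowX (wedge eta wRes)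
open GrothLib.ExtPowX.Ses (resW mu)
open GrothLib.GenFlatBC9 (tens tmulHom)
open GrothLib.WedgePair27 (etaE mres_etaE)
open scoped TensorProduct

noncomputable section

namespace GrothLib.BiReg5

variable {X : Scheme.{u}} (E : X.Modules)

theorem resW_splitMulti {p q n : ℕ} (h : p + q = n) {U V : X.Opens} (hVU : V ≤ U) (v : Fin n → Γ(E, U)) :
    resW E E p q hVU (splitMulti Γ(X, U) Γ(E, U) h v) =
      splitMulti Γ(X, V) Γ(E, V) h fun i => mres E hVU (v i) := by
  rw [splitMulti_apply, splitMulti_apply]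
  simp only [resW, TensorProduct.map_tmul, ExtPowX.wRes_ιMulti]

theorem resW_comulAlt {p q n : ℕ} (h : p + q = n) {U V : X.Opens} (hVU : V ≤ U)
    (x : ↥(⋀[Γ(X, U)]^n Γ(E, U))) :
    resW E E p q hVU (comulAlt Γ(X, U) Γ(E, U) h x) = comulAlt Γ(X, V) Γ(E, V) h (wRes E n hVU x) := by
  have hx : x ∈ Submodule.span Γ(X, U) (Set.range (exteriorPower.ιMulti Γ(X, U) n (M := Γ(E, U)))) := by
    rw [exteriorPower.ιMulti_span]; exact Submodule.mem_top
  induction hx using Submodule.span_induction with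
  | mem y hy =>
    obtain ⟨v, rfl⟩ := hy
    rw [ExtPowX.wRes_ιMulti, comulAlt_ιMulti, comulAlt_ιMulti, map_sum]
    refine Finset.sum_congr rfl fun σ _ => ?_
    rw [Units.smul_def, Units.smul_def, map_zsmul, resW_splitMulti]
  | zero => simp only [map_zero]
  | add a b _ _ ha hb => simp only [map_add, ha, hb]
  | smul c a _ ha => simp only [map_smul, map_smulₛₗ, ha]

variable (hE : FlatMod.IsFinLocFree E)

/-- The pairing of sections on an affine open. -/
def thetaE (p q : ℕ) {U : X.Opens} (hU : IsAffineOpen U) :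
    (↥(⋀[Γ(X, U)]^p Γ(E, U))) ⊗[Γ(X, U)] (↥(⋀[Γ(X, U)]^q Γ(E, U))) →ₗ[Γ(X, U)]
      Γ(tens (wedge E p) (wedge E q), U) :=
  (tmulHom (wedge E p) (wedge E q) U).comp
    (TensorProduct.map (etaE E hE p hU).toLinearMap (etaE E hE q hU).toLinearMap)

theorem mres_thetaE (p q : ℕ) {U V : X.Opens} (hU : IsAffineOpen U) (hV : IsAffineOpen V) (h : V ≤ U)
    (t : (↥(⋀[Γ(X, U)]^p Γ(E, U))) ⊗[Γ(X, U)] (↥(⋀[Γ(X, U)]^q Γ(E, U)))) :
    (tens (wedge E p) (wedge E q)).presheaf.map (homOfLE h).op (thetaE E hE p q hU t) =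
      thetaE E hE p q hV (resW E E p q h t) := by
  induction t using TensorProduct.induction_on with
  | zero => simp only [map_zero]
  | add a b ha hb => simp only [map_add, ha, hb]
  | tmul x y =>
    show (tens (wedge E p) (wedge E q)).presheaf.map (homOfLE h).op
        (tmulHom (wedge E p) (wedge E q) U (etaE E hE p hU x ⊗ₜ etaE E hE q hU y)) =
      tmulHom (wedge E p) (wedge E q) V (etaE E hE p hV (wRes E p h x) ⊗ₜ etaE E hE q hV (wRes E q h y))
    rw [GenFlatBC9.tmulHom_tmul, GenFlatBC9.tmulHom_tmul, GenFlatBC9.res_tmulSec, ← mres_etaE E hE p hU hV h,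
      ← mres_etaE E hE q hU hV h]

include hE in
/-- **In characteristic zero a wedge is a direct summand of a tensor product of wedges.** -/
theorem exists_retract {p q n : ℕ} (h : p + q = n)
    (hu : ∀ U : X.affineOpens, IsUnit ((n.factorial : ℕ) : Γ(X, U.1))) :
    ∃ (s : wedge E n ⟶ CohB1.tensorMod (wedge E p) (wedge E q))
      (r : CohB1.tensorMod (wedge E p) (wedge E q) ⟶ wedge E n), IsIso (s ≫ r) := by
  obtain ⟨Φ, hΦ⟩ := WedgePair27.exists_pairing E hE h
  obtain ⟨s, hs⟩ := AffHom.exists_hom (M := wedge E n) (N := tens (wedge E p) (wedge E q))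
    (fun U => (thetaE E hE p q U.2).comp
      ((comulAlt Γ(X, U.1) Γ(E, U.1) h).comp (etaE E hE n U.2).symm.toLinearMap)) (fun U V hVU m => by
      obtain ⟨x, rfl⟩ := (etaE E hE n U.2).surjective m
      simp only [LinearMap.comp_apply, LinearEquiv.coe_coe, LinearEquiv.symm_apply_apply]
      rw [mres_thetaE E hE p q U.2 V.2 hVU, resW_comulAlt]
      have e : (wedge E n).presheaf.map (homOfLE hVU).op (etaE E hE n U.2 x) =
          etaE E hE n V.2 (wRes E n hVU x) := mres_etaE E hE n U.2 V.2 hVU x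
      rw [e, LinearEquiv.symm_apply_apply])
  refine ⟨s, Φ, ?_⟩
  haveI := WedgePair27.isQCoh_wedge E hE n
  have hpair : ∀ (U : X.affineOpens)
      (t : (↥(⋀[Γ(X, U.1)]^p Γ(E, U.1))) ⊗[Γ(X, U.1)] (↥(⋀[Γ(X, U.1)]^q Γ(E, U.1)))),
      Φ.app U.1 (thetaE E hE p q U.2 t) = etaE E hE n U.2 (mu LinearMap.id h t) := fun U t => by
    induction t using TensorProduct.induction_on with
    | zero => simp only [map_zero]
    | add a b ha hb => simp only [map_add]; exact congrArg₂ (· + ·) ha hb
    | tmul x y =>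
      refine (hΦ U (etaE E hE p U.2 x) (etaE E hE q U.2 y)).trans ?_
      simp only [WedgePair27.secPair, LinearMap.mk₂_apply, LinearEquiv.symm_apply_apply]
      rfl
  have key : ∀ (U : X.affineOpens) (m : Γ(wedge E n, U.1)),
      (s ≫ Φ).app U.1 m = ((n.factorial : ℕ) : Γ(X, U.1)) • m := fun U m => by
    show Φ.app U.1 (s.app U.1 m) = _
    rw [hs U m]
    obtain ⟨x, rfl⟩ := (etaE E hE n U.2).surjective m
    simp only [LinearMap.comp_apply, LinearEquiv.coe_coe, LinearEquiv.symm_apply_apply]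
    rw [hpair U, mu_comulAlt, map_smul]
  refine QCoh.isIso_of_bijective_on_cover (s ≫ Φ) (fun U : X.affineOpens => U.1) ?_ (fun U => U.2) fun U => ?_
  · refine top_le_iff.1 fun x _ => ?_
    obtain ⟨W, hW, hxW, -⟩ := exists_isAffineOpen_mem_and_subset (U := (⊤ : X.Opens)) (x := x) trivial
    exact Opens.mem_iSup.2 ⟨⟨W, hW⟩, hxW⟩
  · obtain ⟨c, hc⟩ := hu U
    refine ⟨fun a b hab => ?_, fun b => ⟨(↑c⁻¹ : Γ(X, U.1)) • b, ?_⟩⟩
    · have h1 : ((n.factorial : ℕ) : Γ(X, U.1)) • a = ((n.factorial : ℕ) : Γ(X, U.1)) • b :=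
        (key U a).symm.trans (hab.trans (key U b))
      rw [← hc] at h1
      have h2 := congrArg (fun z => (↑c⁻¹ : Γ(X, U.1)) • z) h1
      simpa only [smul_smul, Units.inv_mul, one_smul] using h2
    · refine (key U _).trans ?_
      rw [← hc, smul_smul, Units.mul_inv, one_smul]

end GrothLib.BiReg5
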