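import Groth.Agent.Lib.BiReg5.Basic
import Groth.Agent.Lib.BiReg5.Wedge
import Groth.Agent.Lib.ExtPowX.Pullback
import Groth.Agent.Lib.ModelK.Exists

/-!
# Bigraded regularity of exterior powers on `P¹ × P¹`
-/

universe u

set_option autoImplicit false
set_option linter.all false
set_option backward.isDefEq.respectTransparency false
set_option maxHeartbeats 600000

open CategoryTheory CategoryTheory.Limits AlgebraicGeometry
open GrothLib.ExtPowX (wedge)

noncomputable section

namespace GrothLib.BiReg5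

open GrothLib.Quad12 (Z)

variable (k : Type u) [Field k]

theorem isUnit_natCast [CharZero k] (N : ℕ) (hN : N ≠ 0) (U : (Z k).Opens) : IsUnit ((N : ℕ) : Γ(Z k, U)) := by
  let φ : k →+* Γ(Z k, ⊤) :=
    ((Scheme.ΓSpecIso (CommRingCat.of k)).inv ≫
      (Quad12.pr1 k ≫ CohB1.ProjSpace.toSpec 1 k).appTop).hom
  let ψ : k →+* Γ(Z k, U) := ((Z k).presheaf.map (homOfLE (le_top : U ≤ ⊤)).op).hom.comp φ
  rw [← map_natCast ψ N]
  exact (IsUnit.mk0 _ (Nat.cast_ne_zero.2 hN)).map ψ

/-- **Exterior powers.** -/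
theorem Reg.wedge [CharZero k] {G : (Z k).Modules} {p q : ℤ} (h : Reg k G p q) (hG : FlatMod.IsFinLocFree G) :
    ∀ j : ℕ, Reg k (ExtPowX.wedge G j) (j * p) (j * q)
  | 0 => by
    obtain ⟨e⟩ := ExtPowX.nonempty_iso (ModelK.isExtPow_zero G) (ExtPowX.isExtPow_wedge hG 0) (Iso.refl G)
    simpa only [Nat.cast_zero, zero_mul] using (reg_structure k).of_iso k e
  | j + 1 => by
    obtain ⟨e⟩ := ExtPowX.nonempty_iso (ModelK.isExtPow_one G) (ExtPowX.isExtPow_wedge hG 1) (Iso.refl G)
    have hT := Reg.tensor k (Reg.wedge h hG j) (h.of_iso k e) (ExtPowX.isFinLocFree_wedge hG j)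
      (ExtPowX.isFinLocFree_wedge hG 1)
    obtain ⟨s, r, hsr⟩ := exists_retract G hG (p := j) (q := 1) (n := j + 1) rfl
      fun U => isUnit_natCast k _ (Nat.factorial_ne_zero _) U.1
    have h' := hT.of_retract k s r hsr
    have e1 : ((j + 1 : ℕ) : ℤ) * p = j * p + p := by push_cast; ring
    have e2 : ((j + 1 : ℕ) : ℤ) * q = j * q + q := by push_cast; ring
    rw [e1, e2]
    exact h'

end GrothLib.BiReg5
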